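import Groth.Agent.LiaisonLib.ACI
import Groth.Agent.GorLib.Basic
import Mathlib.RingTheory.Localization.FractionRing

/-!
# Sections outside a closed set of codimension two

For a quotient domain `B` of a regular ring `A` the sections of the structure sheaf outside `V(J)`, with `J`
of height at least two, form a finite `B`-module: they embed in a complete intersection `A ⧸ I` of the
codimension of `B` (the argument is the one showing that the dualising module of `B` is `S₂`).
-/

set_option autoImplicit false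
set_option linter.style.haveILetI false
universe u

open IsLocalRing CommAlgDim

noncomputable section

namespace SectFinLib

/-- An associated prime of a complete intersection in a regular ring has height at most the number of equations. -/
theorem height_le_of_mem_associatedPrimes {A : Type u} [CommRing A] [IsRegularRing A] {c : ℕ} (g : Fin c → A)
    (hc : (c : ℕ∞) ≤ (Ideal.span (Set.range g)).height) {Q : Ideal A}
    (hQ : Q ∈ associatedPrimes A (A ⧸ Ideal.span (Set.range g))) : Q.height ≤ c := by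
  haveI := hQ.isPrime
  set I := Ideal.span (Set.range g) with hI
  have hIQ : I ≤ Q := (LiaisonLib.map_mem_associatedPrimes hQ).1
  let B := Localization.AtPrime Q
  haveI : IsNoetherianRing B := IsLocalization.isNoetherianRing Q.primeCompl _ inferInstance
  let rs := List.ofFn fun i => algebraMap A B (g i)
  have hrs : Ideal.ofList rs = I.map (algebraMap A B) := by
    rw [hI, Ideal.map_span, ← Set.range_comp]
    exact congrArg Ideal.span (Set.ext fun x => by simp [rs, Function.comp, List.mem_ofFn])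
  have hlen : rs.length = c := List.length_ofFn
  have hm : ∀ r ∈ rs, r ∈ maximalIdeal B := fun r hr => by
    rw [← Localization.AtPrime.map_eq_maximalIdeal]
    exact Ideal.map_mono hIQ (hrs ▸ Ideal.subset_span hr)
  have hreg := isRegular_of_dim (isCM_of_isRegularLocalRing B) hm
    (by rw [hrs, hlen]; exact LiaisonLib.ringKrullDim_quotient_le hc hIQ)
  have hd := ringKrullDim_add_length_eq_ringKrullDim_of_isRegular rs hreg
  haveI := (GorLib.gorenstein_quotient_ofList_iff _ B rs rfl hreg.toIsWeaklyRegular hm).1 (Groth.Agent.S0342.result B)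
  let T := B ⧸ Ideal.ofList rs
  obtain ⟨-, y, hy⟩ := isAssociatedPrime_iff.1 (AssociatedPrimes.mem_iff.1 hQ)
  obtain ⟨b, rfl⟩ := Ideal.Quotient.mk_surjective y
  have hmem : ∀ z, z ∈ Q ↔ z * b ∈ I := fun z => by
    rw [hy, Submodule.mem_colon_singleton, Submodule.mem_bot, Algebra.smul_def,
      Ideal.Quotient.algebraMap_eq, ← map_mul, Ideal.Quotient.eq_zero_iff_mem]
  let w : T := Ideal.Quotient.mk _ (algebraMap A B b)
  have hw : w ≠ 0 := fun h => by
    rw [Ideal.Quotient.eq_zero_iff_mem, hrs, IsLocalization.algebraMap_mem_map_algebraMap_iff Q.primeCompl] at h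
    obtain ⟨u, hu, hub⟩ := h
    exact hu ((hmem u).2 hub)
  obtain ⟨P, hP, hPw⟩ := exists_le_isAssociatedPrime_of_isNoetherianRing T w hw
  have hle : maximalIdeal T ≤ (⊥ : Submodule T T).colon {w} := fun z hz => by
    obtain ⟨z, rfl⟩ := Ideal.Quotient.mk_surjective z
    have hz' : z ∈ maximalIdeal B := by
      rw [mem_maximalIdeal, mem_nonunits_iff] at hz ⊢
      exact fun h => hz (h.map _)
    obtain ⟨a, s, rfl⟩ := IsLocalization.exists_mk'_eq Q.primeCompl z
    rw [IsLocalization.AtPrime.mk'_mem_maximal_iff B Q a s] at hz'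
    rw [Submodule.mem_colon_singleton, Submodule.mem_bot]
    show Ideal.Quotient.mk _ (IsLocalization.mk' B a s * algebraMap A B b) = 0
    rw [Ideal.Quotient.eq_zero_iff_mem, hrs, mul_comm, IsLocalization.mul_mk'_eq_mk'_of_mul,
      IsLocalization.mk'_mem_map_algebraMap_iff]
    exact ⟨1, Q.primeCompl.one_mem, by rw [one_mul, mul_comm]; exact (hmem a).1 hz'⟩
  haveI := hP.isPrime
  have hPmax : P = maximalIdeal T := le_antisymm (le_maximalIdeal hP.isPrime.ne_top) (hle.trans hPw)
  have h0 := CatLib.ringKrullDim_quotient_of_mem_associatedPrimes (GorLib.isCM_of_gorenstein (R := T))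
    (hPmax ▸ AssociatedPrimes.mem_iff.2 hP)
  letI := Ideal.Quotient.field (maximalIdeal T)
  rw [ringKrullDim_eq_zero_of_field] at h0
  rw [← h0, zero_add, hlen, IsLocalization.AtPrime.ringKrullDim_eq_height Q B] at hd
  exact le_of_eq (WithBot.coe_inj.1 hd.symm)

/-- The sections of the structure sheaf of `Spec B` outside `V(J)`. -/
def sec {B : Type u} [CommRing B] [IsDomain B] (J : Ideal B) : Subalgebra B (FractionRing B) where
  carrier := {x | ∀ (p : Ideal B) [p.IsPrime], ¬ J ≤ p →
    ∃ s : B, s ∉ p ∧ ∃ a : B, algebraMap B (FractionRing B) a = algebraMap B (FractionRing B) s * x}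
  mul_mem' := by
    intro x y hx hy p _ hp
    obtain ⟨s, hs, a, ha⟩ := hx p hp
    obtain ⟨t, ht, b, hb⟩ := hy p hp
    refine ⟨s * t, fun h => (Ideal.IsPrime.mem_or_mem ‹_› h).elim hs ht, a * b, ?_⟩
    rw [map_mul, map_mul, ha, hb]; ring
  add_mem' := by
    intro x y hx hy p _ hp
    obtain ⟨s, hs, a, ha⟩ := hx p hp
    obtain ⟨t, ht, b, hb⟩ := hy p hp
    refine ⟨s * t, fun h => (Ideal.IsPrime.mem_or_mem ‹_› h).elim hs ht, a * t + b * s, ?_⟩
    rw [map_add, map_mul, map_mul, map_mul, ha, hb]; ring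
  algebraMap_mem' := fun r p _ _ => ⟨1, fun h => Ideal.IsPrime.ne_top ‹_› ((Ideal.eq_top_iff_one _).2 h),
    r, by rw [map_one, one_mul]⟩

variable {A : Type u} [CommRing A] [IsRegularRing A] {B : Type u} [CommRing B] [IsDomain B]

theorem finite_sec_of_regular (f : A →+* B) (hf : Function.Surjective f) (J : Ideal B) (hJ : 2 ≤ J.height) :
    Module.Finite B ↥(sec J) := by
  classical
  let K := FractionRing B
  let am := algebraMap B K
  have hinj : Function.Injective am := IsFractionRing.injective B K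
  set P := RingHom.ker f with hPdef
  haveI : P.IsPrime := RingHom.ker_isPrime f
  obtain ⟨I, hIP, hrank, hht⟩ := P.exists_spanRank_eq_and_height_eq (Ideal.IsPrime.ne_top ‹_›)
  have hfg : I.FG := IsNoetherian.noetherian I
  obtain ⟨t, ht, htI⟩ := Submodule.FG.exists_span_finset_card_eq_spanFinrank hfg
  let c := t.card
  let g : Fin c → A := fun i => (t.equivFin.symm i : A)
  have hg : Ideal.span (Set.range g) = I := by
    rw [← htI]
    refine congrArg (Submodule.span A) (Set.ext fun x => ⟨fun ⟨i, hi⟩ => hi ▸ (t.equivFin.symm i).2, fun hx =>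
      ⟨t.equivFin ⟨x, hx⟩, by simp [g]⟩⟩)
  have hc : P.height = c := by
    rw [Submodule.fg_iff_spanRank_eq_spanFinrank.mpr hfg, ← ht] at hrank
    exact le_antisymm (Cardinal.ofENat_le_nat.mp hrank.ge) (Cardinal.nat_le_ofENat.mp hrank.le)
  have hcI : (c : ℕ∞) ≤ (Ideal.span (Set.range g)).height := by rw [hg, hht, hc]
  have hub : ∀ Q ∈ associatedPrimes A (A ⧸ I), Q.height ≤ c := fun Q hQ =>
    height_le_of_mem_associatedPrimes g hcI (by rw [hg]; exact hQ)
  have hPmin : P ∈ I.minimalPrimes := Ideal.mem_minimalPrimes_of_height_le hIP (by rw [hht])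
  have hPass := LiaisonLib.mem_associatedPrimes_of_minimal hPmin
  obtain ⟨-, w, hw⟩ := isAssociatedPrime_iff.1 (AssociatedPrimes.mem_iff.1 hPass)
  obtain ⟨w, rfl⟩ := Ideal.Quotient.mk_surjective w
  have hmem : ∀ z, z ∈ P ↔ z * w ∈ I := fun z => by
    rw [hw, Submodule.mem_colon_singleton, Submodule.mem_bot, Algebra.smul_def,
      Ideal.Quotient.algebraMap_eq, ← map_mul, Ideal.Quotient.eq_zero_iff_mem]
  let π := Ideal.Quotient.mk I
  haveI : IsNoetherianRing B := isNoetherianRing_of_surjective A B f hf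
  -- the good denominators
  let Good : A → Prop := fun s => ∀ Q ∈ associatedPrimes A (A ⧸ I), s ∉ Q
  have good_mul : ∀ {s t}, Good s → Good t → Good (s * t) := fun hs ht Q hQ h =>
    (hQ.isPrime.mem_or_mem h).elim (hs Q hQ) (ht Q hQ)
  have good_cancel : ∀ {s}, Good s → ∀ y : A ⧸ I, π s * y = 0 → y = 0 := fun {s} hs y h => by
    by_contra hy
    obtain ⟨Q, hQ, hQy⟩ := exists_le_isAssociatedPrime_of_isNoetherianRing A y hy
    refine hs Q (AssociatedPrimes.mem_iff.2 hQ) (hQy ?_)
    rw [Submodule.mem_colon_singleton, Submodule.mem_bot, Algebra.smul_def]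
    exact h
  have good_notMem : ∀ {s}, Good s → f s ≠ 0 := fun hs h => hs P hPass h
  have hge : ∀ Q ∈ associatedPrimes A (A ⧸ I), (c : ℕ∞) ≤ Q.height := fun Q hQ => by
    refine hcI.trans (Ideal.height_mono ?_)
    rw [hg]; exact (LiaisonLib.map_mem_associatedPrimes hQ).1
  have hanti : ∀ Q ∈ associatedPrimes A (A ⧸ I), ∀ Q' ∈ associatedPrimes A (A ⧸ I), Q ≤ Q' → Q = Q' := by
    intro Q hQ Q' hQ' hle
    by_contra hne
    haveI := hQ.isPrime
    have h2 := Ideal.height_strict_mono_of_isPrime (lt_of_le_of_ne hle hne)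
    exact absurd ((hge Q hQ).trans_lt (h2.trans_le (hub Q' hQ'))) (lt_irrefl _)
  have hgood : ∀ x : K, ∃ a s, Good s ∧ am (f a) = am (f s) * x := by
    intro x
    obtain ⟨⟨a', s'⟩, hx⟩ := IsLocalization.surj (nonZeroDivisors B) x
    obtain ⟨a, rfl⟩ := hf a'
    obtain ⟨s, hs⟩ := hf s'
    have hsP : s ∉ P := fun h => nonZeroDivisors.ne_zero s'.2 (by rw [← hs]; exact h)
    let Ass := (associatedPrimes.finite A (A ⧸ I)).toFinset
    let S₁ := Ass.filter fun Q => s ∈ Q
    let S₂ := Ass.filter fun Q => s ∉ Q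
    have hN : ¬ ((S₂.inf id : Ideal A) : Set A) ⊆ ⋃ Q ∈ (S₁ : Set (Ideal A)), (Q : Set A) := by
      intro hsub
      obtain ⟨Q, hQ₁, hQ⟩ := (Ideal.subset_union_prime ⊥ ⊥ fun Q hQ _ _ =>
        ((associatedPrimes.finite A (A ⧸ I)).mem_toFinset.1 (Finset.filter_subset _ _ hQ)).isPrime).1 hsub
      obtain ⟨hQA, hsQ⟩ := Finset.mem_filter.1 hQ₁
      have hQA' := (associatedPrimes.finite A (A ⧸ I)).mem_toFinset.1 hQA
      haveI := hQA'.isPrime
      obtain ⟨Q', hQ'₂, hQ'⟩ := (Ideal.IsPrime.inf_le' inferInstance).1 hQ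
      obtain ⟨hQ'A, hsQ'⟩ := Finset.mem_filter.1 hQ'₂
      exact hsQ' (hanti Q' ((associatedPrimes.finite A (A ⧸ I)).mem_toFinset.1 hQ'A) Q hQA' hQ' ▸ hsQ)
    obtain ⟨t, ht₂, ht₁⟩ := Set.not_subset.1 hN
    have hPS : P ∈ S₂ := Finset.mem_filter.2 ⟨(associatedPrimes.finite A (A ⧸ I)).mem_toFinset.2 hPass, hsP⟩
    have htP : f t = 0 := (Finset.inf_le hPS : S₂.inf id ≤ P) ht₂
    refine ⟨a, s + t, fun Q hQ h => ?_, ?_⟩
    · have hQA := (associatedPrimes.finite A (A ⧸ I)).mem_toFinset.2 hQ
      by_cases hsQ : s ∈ Q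
      · exact ht₁ (Set.mem_iUnion₂.2 ⟨Q, Finset.mem_filter.2 ⟨hQA, hsQ⟩, (Q.add_mem_iff_right hsQ).1 h⟩)
      · exact hsQ ((Q.add_mem_iff_left ((Finset.inf_le (Finset.mem_filter.2 ⟨hQA, hsQ⟩) : S₂.inf id ≤ Q) ht₂)).1 h)
    · rw [map_add, htP, add_zero, hs, mul_comm]; exact hx.symm
  -- the value of a section in the complete intersection
  let Φ : K → (A ⧸ I) → Prop := fun x v => ∀ a s : A, am (f a) = am (f s) * x → π (a * w) = π s * v
  have huniq : ∀ x v v', Φ x v → Φ x v' → v = v' := by
    intro x v v' hv hv'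
    obtain ⟨a, s, hs, e⟩ := hgood x
    exact sub_eq_zero.1 (good_cancel hs _ (by rw [mul_sub, ← hv a s e, ← hv' a s e, sub_self]))
  have hex : ∀ x ∈ sec J, ∃ v, Φ x v := by
    intro x hx
    obtain ⟨a₀, s₀, hs₀, e₀⟩ := hgood x
    let g' : Fin (c + 1) → A := Fin.cons s₀ g
    have hspan : Ideal.span (Set.range g') = Ideal.span {s₀} ⊔ I := by
      rw [Fin.range_cons, Ideal.span_insert, hg]
    suffices hmem' : a₀ * w ∈ Ideal.span (Set.range g') by
      rw [hspan, Ideal.mem_span_singleton_sup] at hmem'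
      obtain ⟨v, i, hi, hv⟩ := hmem'
      refine ⟨π v, fun a s e => ?_⟩
      have h1 : a * s₀ - a₀ * s ∈ P := by
        show f _ = 0
        rw [map_sub, map_mul, map_mul, sub_eq_zero]
        apply hinj
        show am _ = am _
        rw [map_mul, map_mul, e, e₀]; ring
      have h2 : π (a * s₀ * w) = π (a₀ * s * w) :=
        Ideal.Quotient.eq.2 (by rw [← sub_mul]; exact (hmem _).1 h1)
      have h3 : π (a₀ * w) = π (v * s₀) := Ideal.Quotient.eq.2 (by
        rw [← hv]; simpa using hi)
      refine sub_eq_zero.1 (good_cancel hs₀ _ ?_)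
      simp only [map_mul] at h2 h3 ⊢
      linear_combination h2 + π s * h3
    have hc' : ((c + 1 : ℕ) : ℕ∞) ≤ (Ideal.span (Set.range g')).height := by
      rw [Ideal.height_eq_inf_minimalPrimes]
      refine le_iInf₂ fun Q hQ => ?_
      haveI := hQ.1.1
      rw [hspan] at hQ
      obtain ⟨Q₀, hQ₀, hle⟩ := Ideal.exists_minimalPrimes_le (le_sup_right.trans hQ.1.2)
      haveI := hQ₀.1.1
      have hQ₀a := LiaisonLib.mem_associatedPrimes_of_minimal hQ₀
      have hlt : Q₀ < Q := lt_of_le_of_ne hle fun e =>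
        hs₀ Q₀ hQ₀a (e ▸ hQ.1.2 (Ideal.mem_sup_left (Ideal.mem_span_singleton_self s₀)))
      exact le_trans (by push_cast; exact add_le_add (hge Q₀ hQ₀a) le_rfl)
        (Order.add_one_le_of_lt (Ideal.height_strict_mono_of_isPrime hlt))
    by_contra hno
    obtain ⟨Q, hQ, hQy⟩ := exists_le_isAssociatedPrime_of_isNoetherianRing A
      (Ideal.Quotient.mk (Ideal.span (Set.range g')) (a₀ * w)) (fun h => hno (Ideal.Quotient.eq_zero_iff_mem.1 h))
    have hQ' := AssociatedPrimes.mem_iff.2 hQ
    haveI := hQ.isPrime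
    have hht' := height_le_of_mem_associatedPrimes g' hc' hQ'
    have hsub : ∀ z, z * (a₀ * w) ∈ Ideal.span (Set.range g') → z ∈ Q := fun z hz => hQy (by
      rw [Submodule.mem_colon_singleton, Submodule.mem_bot, Algebra.smul_def,
        Ideal.Quotient.algebraMap_eq, ← map_mul, Ideal.Quotient.eq_zero_iff_mem]
      exact hz)
    have hleI : I ≤ Ideal.span (Set.range g') := hspan ▸ le_sup_right
    have hPQ : P ≤ Q := fun p hp => hsub p (hleI (by
      rw [mul_left_comm]; exact I.mul_mem_left _ ((hmem p).1 hp)))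
    haveI : (Q.map f).IsPrime := Ideal.map_isPrime_of_surjective hf hPQ
    have hcm : (Q.map f).comap f = Q := by
      rw [Ideal.comap_map_of_surjective f hf, ← RingHom.ker_eq_comap_bot, sup_eq_left.2 hPQ]
    have hJQ : ¬ J ≤ Q.map f := fun hle => by
      have h2 : 2 ≤ (Q.map f).height := hJ.trans (Ideal.height_mono hle)
      obtain ⟨l, hl, hlen⟩ := (Q.map f).exists_ltSeries_length_eq_height
      have hlen2 : 2 ≤ l.length := by exact_mod_cast h2.trans hlen.ge
      let p₂ := l ⟨1, by omega⟩
      have hlt₁ : P < p₂.asIdeal.comap f := by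
        refine lt_of_le_of_ne (fun p hp => by
          show f p ∈ p₂.asIdeal
          rw [show f p = 0 from hp]; exact zero_mem _) fun e => ?_
        have h0 : l ⟨0, by omega⟩ < p₂ := l.strictMono (show (0 : ℕ) < 1 by omega)
        have h0' : (l ⟨0, by omega⟩).asIdeal < p₂.asIdeal := h0
        obtain ⟨z, hz, hz'⟩ := SetLike.exists_of_lt h0'
        obtain ⟨y, rfl⟩ := hf z
        have : f y = 0 := (show y ∈ P from e ▸ hz)
        exact hz' (this ▸ zero_mem _)
      have hlt₂ : p₂.asIdeal.comap f < Q := by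
        have h1 : p₂ < RelSeries.last l := l.strictMono (show (1 : ℕ) < l.length by omega)
        have h1' : p₂.asIdeal < Q.map f := by
          rw [hl] at h1; exact h1
        refine lt_of_le_of_ne (hcm ▸ Ideal.comap_mono h1'.le) fun e => ?_
        exact h1'.ne (by rw [← e, Ideal.map_comap_of_surjective f hf])
      have e1 := Order.add_one_le_of_lt (Ideal.height_strict_mono_of_isPrime hlt₁)
      have e2 := Order.add_one_le_of_lt (Ideal.height_strict_mono_of_isPrime hlt₂)
      rw [hc] at e1
      have e3 := ((add_le_add e1 (le_refl (1 : ℕ∞))).trans e2).trans hht'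
      norm_cast at e3
      omega
    obtain ⟨s', hs', a', e'⟩ := hx (Q.map f) hJQ
    obtain ⟨a₁, rfl⟩ := hf a'
    obtain ⟨s₁, rfl⟩ := hf s'
    have hs₁ : s₁ ∉ Q := fun h => hs' (Ideal.mem_map_of_mem f h)
    have h1 : s₁ * a₀ - a₁ * s₀ ∈ P := by
      show f _ = 0
      rw [map_sub, map_mul, map_mul, sub_eq_zero]
      apply hinj
      show am _ = am _
      rw [map_mul, map_mul, show am (f a₁) = am (f s₁) * x from e', e₀]; ring
    refine hs₁ (hsub s₁ ?_)
    have h2 : (s₁ * a₀ - a₁ * s₀) * w ∈ Ideal.span (Set.range g') := hleI ((hmem _).1 h1)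
    have h3 : a₁ * w * s₀ ∈ Ideal.span (Set.range g') :=
      Ideal.mul_mem_left _ _ (Ideal.subset_span ⟨0, by simp [g']⟩)
    have := add_mem h2 h3
    convert this using 1
    ring
  choose v hv using hex
  letI algAB : Algebra A B := f.toAlgebra
  haveI : IsScalarTower A B K := inferInstance
  let S : Submodule A K := (Subalgebra.toSubmodule (sec J)).restrictScalars A
  let F : S →ₗ[A] A ⧸ I :=
    { toFun := fun x => v x.1 x.2
      map_add' := fun x y => by
        obtain ⟨a, s, hs, e⟩ := hgood x.1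
        obtain ⟨b, t, ht, e'⟩ := hgood y.1
        have key : am (f (a * t + b * s)) = am (f (s * t)) * ((x + y : S) : K) := by
          simp only [map_add, map_mul, e, e', Submodule.coe_add]; ring
        have h1 := hv _ (x + y).2 _ _ key
        have hx' := hv x.1 x.2 a s e
        have hy' := hv y.1 y.2 b t e'
        refine sub_eq_zero.1 (good_cancel (good_mul hs ht) _ ?_)
        simp only [map_mul, map_add] at h1 hx' hy' ⊢
        linear_combination -1 * h1 + π t * hx' + π s * hy'
      map_smul' := fun r x => by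
        obtain ⟨a, s, hs, e⟩ := hgood x.1
        have key : am (f (r * a)) = am (f s) * ((r • x : S) : K) := by
          rw [map_mul, map_mul, e, Submodule.coe_smul, Algebra.smul_def]
          show am (f r) * _ = am (f s) * (am (f r) * _)
          ring
        have h1 := hv _ (r • x).2 _ _ key
        have hx' := hv x.1 x.2 a s e
        refine sub_eq_zero.1 (good_cancel hs _ ?_)
        simp only [map_mul, RingHom.id_apply, Algebra.smul_def, Ideal.Quotient.algebraMap_eq] at h1 hx' ⊢
        linear_combination -1 * h1 + π r * hx' }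
  have hF : Function.Injective F := by
    rw [injective_iff_map_eq_zero]
    intro x hx
    obtain ⟨a, s, hs, e⟩ := hgood x.1
    have h1 := hv x.1 x.2 a s e
    rw [show v x.1 x.2 = 0 from hx, mul_zero, Ideal.Quotient.eq_zero_iff_mem, ← hmem] at h1
    rw [show f a = 0 from h1, map_zero] at e
    exact Subtype.ext ((mul_eq_zero.1 e.symm).resolve_left fun h =>
      good_notMem hs (hinj (h.trans (map_zero am).symm)))
  haveI : IsNoetherianRing A := inferInstance
  haveI : Module.Finite A S := Module.Finite.of_injective F hF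
  have hS : S.FG := Module.Finite.iff_fg.1 inferInstance
  obtain ⟨G, hG⟩ := hS
  refine Module.Finite.iff_fg.2 (show (Subalgebra.toSubmodule (sec J)).FG from ⟨G, le_antisymm ?_ ?_⟩)
  · rw [Submodule.span_le]
    intro y hy
    exact (show y ∈ S from hG ▸ Submodule.subset_span hy)
  · intro y hy
    exact Submodule.span_le_restrictScalars A B (G : Set K) (hG.ge hy)

end SectFinLib
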