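import Groth.Agent.SectFinLib.Basic
import Groth.Agent.NormalLib.Serre
import Groth.Agent.DimIneqLib.Equality
import Groth.Agent.CatLib.More
import Mathlib.RingTheory.IntegralClosure.IntegrallyClosed

/-! # Sections outside codimension two for universally catenary Japanese domains -/

set_option autoImplicit false
set_option linter.style.haveILetI false
universe u

noncomputable section

namespace SectFinLib

theorem finite_sec_of_catenary {B : Type u} [CommRing B] [IsDomain B] (hB : CAlg.IsUniversallyCatenary B)
    (hfin : Module.Finite B ↥(integralClosure B (FractionRing B))) (J : Ideal B) (hJ : 2 ≤ J.height) :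
    Module.Finite B ↥(sec J) := by
  haveI := hB.1
  let K := FractionRing B
  let C := integralClosure B K
  haveI : IsFractionRing C K := integralClosure.isFractionRing_of_finite_extension K K
  haveI : IsIntegrallyClosed C := integralClosure.isIntegrallyClosedOfFiniteExtension K
  haveI : IsNoetherianRing C := IsNoetherianRing.of_finite B C
  have hinj : Function.Injective (algebraMap B C) := fun a b h =>
    IsFractionRing.injective B K (congrArg Subtype.val h)
  haveI : FaithfulSMul B C := (faithfulSMul_iff_algebraMap_injective B C).2 hinj
  haveI : Algebra.IsIntegral B C := inferInstance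
  have hle : Subalgebra.toSubmodule (sec J) ≤ Subalgebra.toSubmodule C := by
    intro x hx
    obtain ⟨⟨a, s⟩, hxs⟩ := IsLocalization.surj (nonZeroDivisors B) x
    simp only at hxs
    have hs0 : algebraMap B C s ≠ 0 := fun h => nonZeroDivisors.ne_zero s.2 (hinj (h.trans (map_zero _).symm))
    obtain ⟨d, hd⟩ : algebraMap B C s ∣ algebraMap B C a := by
      refine NormalLib.dvd_of_forall_associatedPrimes fun Q hQ => ?_
      haveI := hQ.isPrime
      let p := Q.under B
      haveI : Algebra.IsAlgebraic B C := Algebra.IsIntegral.isAlgebraic
      haveI : Algebra.IsIntegral (B ⧸ p) (C ⧸ Q) := Algebra.IsIntegral.tower_top (R := B)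
      haveI : Algebra.IsAlgebraic (B ⧸ p) (C ⧸ Q) := Algebra.IsIntegral.isAlgebraic
      have hf := DimIneqLib.main_eq (R := B) hB Q p
      rw [DimIneqLib.tr_eq_zero, DimIneqLib.tr_eq_zero, add_zero, add_zero,
        NormalLib.height_eq_one_of_mem_associatedPrimes hs0 hQ] at hf
      have hJp : ¬ J ≤ p := fun h => absurd (hJ.trans ((Ideal.height_mono h).trans hf.ge)) (by norm_num)
      obtain ⟨t, ht, b, hb⟩ := hx p hJp
      refine ⟨algebraMap B C t, ht, algebraMap B C b, ?_⟩
      rw [← map_mul, ← map_mul]
      congr 1
      apply IsFractionRing.injective B K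
      rw [map_mul, map_mul, ← hxs, hb]; ring
    have h2 : algebraMap B K a = algebraMap B K s * (d : K) := congrArg Subtype.val hd
    have h3 : x = (d : K) := by
      refine mul_left_cancel₀ (IsFractionRing.to_map_ne_zero_of_mem_nonZeroDivisors s.2) ?_
      rw [← h2, ← hxs, mul_comm]
    rw [h3]; exact d.2
  haveI : IsNoetherian B C := isNoetherian_of_isNoetherianRing_of_finite B C
  have hfg : (Subalgebra.toSubmodule (sec J)).FG := by
    obtain ⟨G, hG⟩ := IsNoetherian.noetherian ((Subalgebra.toSubmodule (sec J)).comap (Subalgebra.toSubmodule C).subtype)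
    have := Submodule.FG.map (Subalgebra.toSubmodule C).subtype ⟨G, hG⟩
    rwa [Submodule.map_comap_subtype, inf_eq_right.2 hle] at this
  exact Module.Finite.iff_fg.2 hfg

end SectFinLib
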